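import Cfsg.Agent.H54.J4A10.Std
import Cfsg.Agent.H9.J4A10.Seed
import Cfsg.Agent.H94.J4.Model

/-!
The model `VV : Pres` maps isomorphically onto the normalizer of an elementary abelian subgroup of
order `2 ^ 11` with coordinates, for the given complement and for the twisted one.
-/

set_option autoImplicit false
set_option maxRecDepth 100000

namespace H58.J4Id

open Subgroup Cfsg.Agent.H69.J4 H54.J4A10 H9.J4A10
open H54.J4 (Pres gA gB relsP gen ev map_ev)
open H94.J4 (NN VV vec bv colsX colsY maskProd appMask app)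

/-- The basis of the model in the coordinates of `V`. -/
def baseM : List ℕ := [1228, 1316, 1287, 1601, 1073, 637, 1370, 1670, 1242, 726, 236]

/-- The inverse change of basis. -/
def baseMi : List ℕ := [1885, 422, 1003, 1166, 844, 1789, 816, 1704, 2024, 1689, 764]

/-- The matrix of the first generator. -/
def matA : List ℕ := [5, 304, 4, 314, 330, 456, 154, 256, 128, 1890, 1408]

/-- The matrix of the second generator. -/
def matB : List ℕ := [1666, 2, 449, 2004, 659, 1478, 707, 1175, 1421, 1512, 1165]

/-- The inverse of the matrix of the second generator. -/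
def matBi : List ℕ := [1520, 2, 1371, 494, 1388, 1687, 1340, 1480, 1280, 1350, 141]

/-- The permutation of the points under the first generator. -/
def piA : List ℕ := [23, 18, 17, 20, 19, 22, 16, 21, 15, 10, 9, 12, 11, 14, 13, 8, 6, 2, 1, 4, 3, 7, 5, 0]

/-- The permutation of the points under the second generator. -/
def piB : List ℕ := [0, 1, 8, 16, 22, 14, 4, 3, 23, 9, 19, 21, 11, 13, 17, 15, 7, 5, 10, 18, 20, 12, 6, 2]

/-- The translation of the first generator in the twisted complement: the derivation of the three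
points of a cycle of the element of order three of the trio. -/
def dA : Bool → ℕ
  | false => 0
  | true => 482

/-- The translation of the second generator in the twisted complement. -/
def dB : Bool → ℕ
  | false => 0
  | true => 1873

theorem matA_isM : IsM matA :=
  isM_of_isMb (li := matA) (π := piA) (by decide +kernel)

theorem matB_isM : IsM matB :=
  isM_of_isMb (li := matBi) (π := piB) (by decide +kernel)

theorem dA_lt : ∀ t, dA t < 2048 := by decide +kernel

theorem dB_lt : ∀ t, dB t < 2048 := by decide +kernel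

/-- The coordinates of a letter. -/
def pairGen (t : Bool) (g : ℕ) : ℕ × List ℕ :=
  if g = 0 then (dA t, matA) else if g = 1 then (dB t, matB) else pm (dB t, matB) (dB t, matB)

/-- The coordinates of a word. -/
def pairEv (t : Bool) : List ℕ → ℕ × List ℕ
  | [] => (0, idM)
  | g :: w => pm (pairEv t w) (pairGen t g)

theorem pair_rels : ∀ t, ∀ w ∈ relsP, pairEv t w = (0, idM) := by decide +kernel

theorem base_cols : ∀ j < 11, app baseM (colsX.getD j 0) = ap matA (baseM.getD j 0) ∧
    app baseM (colsY.getD j 0) = ap matB (baseM.getD j 0) ∧ baseM.getD j 0 < 2048 := by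
  decide +kernel

theorem base_inv : ((List.range 2048).all fun m => Nat.beq (app baseMi (app baseM m)) m &&
    (Nat.beq (app baseM (app baseMi m)) m && (Nat.blt (app baseM m) 2048 &&
      Nat.blt (app baseMi m) 2048))) = true := by decide +kernel

theorem base_spec {m : ℕ} (hm : m < 2048) : app baseMi (app baseM m) = m ∧
    app baseM (app baseMi m) = m ∧ app baseM m < 2048 ∧ app baseMi m < 2048 := by
  have h := (List.all_eq_true.1 base_inv) m (List.mem_range.2 hm)
  simp only [Bool.and_eq_true, Nat.blt_eq] at h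
  exact ⟨Nat.eq_of_beq_eq_true h.1, Nat.eq_of_beq_eq_true h.2.1, h.2.2.1, h.2.2.2⟩

theorem appMask_lt (m : ℕ) : ∀ k ≤ 11, appMask baseM m k < 2048 := by
  intro k
  induction k with
  | zero => intro _; norm_num [appMask]
  | succ k ih =>
    intro hk
    refine Nat.xor_lt_two_pow (n := 11) ?_ (ih (by omega))
    split
    · exact (base_cols k (by omega)).2.2
    · norm_num

variable {G : Type*} [Group G] {z : G} {V : Subgroup G} (C : Cfg z V) (t : Bool)

/-- The element of the complement with the given matrix. -/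
noncomputable def kA : ↥C.K := (C.code_surj matA matA_isM).choose

/-- The element of the complement with the given matrix. -/
noncomputable def kB : ↥C.K := (C.code_surj matB matB_isM).choose

theorem code_kA : C.code (kA C) = matA := (C.code_surj matA matA_isM).choose_spec
theorem code_kB : C.code (kB C) = matB := (C.code_surj matB matB_isM).choose_spec

/-- The image of the first generator. -/
noncomputable def eA : G := C.co (dA t) * (kA C : G)

/-- The image of the second generator. -/
noncomputable def eB : G := C.co (dB t) * (kB C : G)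

theorem rep_gen (g : ℕ) : Rep C (H54.J4.gen (eA C t) (eB C t) g) (pairGen t g) := by
  have hb : Rep C (eB C t) (dB t, matB) := ⟨dB_lt t, kB C, code_kB C, rfl⟩
  unfold H54.J4.gen pairGen
  split
  · exact ⟨dA_lt t, kA C, code_kA C, rfl⟩
  · split
    · exact hb
    · exact rep_mul C hb hb

theorem rep_ev : ∀ w, Rep C (ev (eA C t) (eB C t) w) (pairEv t w)
  | [] => rep_one C
  | _ :: w => rep_mul C (rep_ev w) (rep_gen C t _)

/-- The small presentation maps to the complement. -/
noncomputable def pHom : Pres →* G :=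
  PresentedGroup.toGroup (f := ![eA C t, eB C t]) (by
    rintro r ⟨w, hw, rfl⟩
    rw [map_ev]
    have h := rep_ev C t w
    rw [pair_rels t w hw] at h
    simpa using rep_unique C h (rep_one C))

theorem pHom_gA : pHom C t gA = eA C t := by simp [pHom, gA]
theorem pHom_gB : pHom C t gB = eB C t := by simp [pHom, gB]

/-- The image of a basis element. -/
def eV (j : ℕ) : G := C.co (baseM.getD j 0)

theorem maskProd_co (m : ℕ) : ∀ k ≤ 11, maskProd (eV C) m k = C.co (appMask baseM m k) := by
  intro k
  induction k with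
  | zero => intro _; exact (Cfg.co_zero C).symm
  | succ k ih =>
    intro hk
    rw [maskProd, appMask, ih (by omega)]
    split
    · rw [C.co_xor _ (base_cols k (by omega)).2.2 _ (appMask_lt m k (by omega))]
      rfl
    · rw [Nat.zero_xor, one_mul]

theorem conj_co {v d : ℕ} (hv : v < 2048) (hd : d < 2048) (k : ↥C.K) :
    C.co d * (k : G) * C.co v * (C.co d * (k : G))⁻¹ = C.co (ap (C.code k) v) := by
  have hl : ap (C.code k) v < 2048 := ap_lt (n := 11) (C.code_spec k).2.1 _
  calc C.co d * (k : G) * C.co v * (C.co d * (k : G))⁻¹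
      = C.co d * ((k : G) * C.co v * (k : G)⁻¹) * (C.co d)⁻¹ := by group
    _ = C.co (ap (C.code k) v) := by
      rw [C.code_act k v hv, (Cfg.co_comm C hd hl).eq, mul_assoc, mul_inv_cancel, mul_one]

/-- The model maps to the normalizer. -/
noncomputable def jHom : NN →* G :=
  H94.J4.liftN (pHom C t) (fun j => eV C j) (fun j => Cfg.co_sq C (base_cols j j.2).2.2)
    (fun i j => (Cfg.co_comm C (base_cols i i.2).2.2 (base_cols j j.2).2.2).eq) (eV C)
    (fun _ => rfl)
    (fun j => by
      rw [pHom_gA, maskProd_co C _ 11 le_rfl, eA]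
      erw [conj_co C (base_cols j j.2).2.2 (dA_lt t) (kA C)]
      rw [code_kA, ← (base_cols j j.2).1]
      rfl)
    (fun j => by
      rw [pHom_gB, maskProd_co C _ 11 le_rfl, eB]
      erw [conj_co C (base_cols j j.2).2.2 (dB_lt t) (kB C)]
      rw [code_kB, ← (base_cols j j.2).2.1]
      rfl)

theorem jHom_inr (p : Pres) : jHom C t (SemidirectProduct.inr p) = pHom C t p := H94.J4.liftN_inr p

theorem jHom_bv (j : Fin 11) : jHom C t (SemidirectProduct.inl (bv j)) = C.co (baseM.getD j 0) :=
  H94.J4.liftN_inl j

theorem jHom_vec (m : ℕ) : jHom C t (SemidirectProduct.inl (vec m)) = C.co (app baseM m) :=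
  (H94.J4.map_vec (f := (jHom C t).comp SemidirectProduct.inl) (h := eV C)
    (fun j => jHom_bv C t j) m).trans (maskProd_co C m 11 le_rfl)

theorem exists_mask (v : VV) : ∃ m < 2048, vec m = v := by
  have hv : v ∈ Subgroup.closure (Set.range bv) := H94.J4.closure_bv ▸ mem_top v
  induction hv using Subgroup.closure_induction with
  | mem x hx =>
    obtain ⟨j, rfl⟩ := hx
    exact ⟨2 ^ (j : ℕ), by
      calc 2 ^ (j : ℕ) < 2 ^ 11 := Nat.pow_lt_pow_right (by norm_num) j.2
        _ = 2048 := by norm_num, H94.J4.vec_two_pow j⟩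
  | one => exact ⟨0, by norm_num, H94.J4.vec_zero⟩
  | mul a b _ _ ha hb =>
    obtain ⟨m, hm, rfl⟩ := ha
    obtain ⟨n, hn, rfl⟩ := hb
    exact ⟨m ^^^ n, Nat.xor_lt_two_pow (n := 11) hm hn, H94.J4.vec_xor m n⟩
  | inv a _ ha =>
    obtain ⟨m, hm, rfl⟩ := ha
    refine ⟨m, hm, (inv_eq_of_mul_eq_one_right ?_).symm⟩
    rw [← H94.J4.vec_xor, Nat.xor_self, H94.J4.vec_zero]

theorem co_eq_one {v : ℕ} (hv : v < 2048) (h : C.co v = 1) : v = 0 :=
  C.co_inj v hv 0 (by norm_num) (h.trans (Cfg.co_zero C).symm)

theorem jHom_injective : Function.Injective (jHom C t) := by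
  have : IsSimpleGroup Cfsg.M24 := H90.M24_simple
  have : IsSimpleGroup Pres := H54.J4.presEquiv.isSimpleGroup
  have hV : ∀ v : VV, jHom C t (SemidirectProduct.inl v) = 1 → v = 1 := by
    intro v h
    obtain ⟨m, hm, rfl⟩ := exists_mask v
    rw [jHom_vec] at h
    have h0 := co_eq_one C (base_spec hm).2.2.1 h
    have h1 := (base_spec hm).1
    rw [h0, show app baseMi 0 = 0 by decide +kernel] at h1
    rw [← h1, H94.J4.vec_zero]
  have hne : H94.J4.act.ker ≠ ⊤ := by
    intro h
    have hx : H94.J4.act gA = 1 := MonoidHom.mem_ker.1 (h ▸ mem_top gA)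
    have h1 : H94.J4.act gA (vec 1) = vec 1 := by rw [hx]; rfl
    rw [H94.J4.act_gA] at h1
    have h2 : H94.J4.colHom colsX (vec 1) = vec 1 := h1
    rw [H94.J4.colHom_vec] at h2
    have h3 := congrFun (congrArg Multiplicative.toAdd h2) 0
    revert h3
    decide +kernel
  have hker : H94.J4.act.ker = ⊥ := ((MonoidHom.normal_ker _).eq_bot_or_eq_top).resolve_right hne
  rw [← MonoidHom.ker_eq_bot_iff, eq_bot_iff]
  intro n hn
  rw [MonoidHom.mem_ker] at hn
  have hact : H94.J4.act n.right = 1 := by
    refine MulEquiv.ext fun v => ?_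
    have h1 : n * SemidirectProduct.inl v * n⁻¹ * (SemidirectProduct.inl v)⁻¹ =
        SemidirectProduct.inl (H94.J4.act n.right v * v⁻¹) := by
      ext <;> simp [mul_comm, mul_left_comm]
    have h2 := hV (H94.J4.act n.right v * v⁻¹) (by rw [← h1]; simp [hn])
    exact mul_inv_eq_one.1 h2
  have hr : n.right = 1 := by
    have : n.right ∈ H94.J4.act.ker := hact
    rwa [hker, mem_bot] at this
  have hn' : n = SemidirectProduct.inl n.left := SemidirectProduct.ext (by simp) (by simpa using hr)
  rw [hn', hV n.left (by rw [← hn']; exact hn), map_one]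
  exact one_mem _

theorem jHom_V : (SemidirectProduct.inl.range : Subgroup NN).map (jHom C t) = V := by
  refine le_antisymm ?_ fun g hg => ?_
  · rintro _ ⟨_, ⟨v, rfl⟩, rfl⟩
    obtain ⟨m, hm, rfl⟩ := exists_mask v
    rw [jHom_vec]
    exact C.co_mem _ (base_spec hm).2.2.1
  · obtain ⟨v, hv, rfl⟩ := C.co_surj g hg
    exact ⟨_, ⟨vec (app baseMi v), rfl⟩, by rw [jHom_vec, (base_spec hv).2.1]⟩

theorem eA_mem : eA C t ∈ normalizer (V : Set G) :=
  mul_mem (le_normalizer (C.co_mem _ (dA_lt t))) (C.K_le (kA C).2)

theorem eB_mem : eB C t ∈ normalizer (V : Set G) :=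
  mul_mem (le_normalizer (C.co_mem _ (dB_lt t))) (C.K_le (kB C).2)

theorem range_jHom [Finite G] : (jHom C t).range = normalizer (V : Set G) := by
  have hle : (jHom C t).range ≤ normalizer (V : Set G) := by
    rintro _ ⟨n, rfl⟩
    rw [← SemidirectProduct.inl_left_mul_inr_right n, map_mul]
    have hv : jHom C t (SemidirectProduct.inl n.left) ∈ (SemidirectProduct.inl.range : Subgroup NN).map (jHom C t) :=
      ⟨_, ⟨n.left, rfl⟩, rfl⟩
    rw [jHom_V] at hv
    refine mul_mem (le_normalizer hv) ?_
    rw [jHom_inr]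
    have : (⊤ : Subgroup Pres) ≤ (normalizer (V : Set G)).comap (pHom C t) := by
      rw [← H54.J4.closure_gens, closure_le]
      rintro p (rfl | rfl)
      · rw [SetLike.mem_coe, mem_comap, pHom_gA]; exact eA_mem C t
      · rw [SetLike.mem_coe, mem_comap, pHom_gB]; exact eB_mem C t
    exact this (mem_top _)
  refine Subgroup.eq_of_le_of_card_ge hle ?_
  rw [← Nat.card_congr (MonoidHom.ofInjective (jHom_injective C t)).toEquiv, H94.J4.card_NN]
  let f : Fin 2048 × ↥C.K → ↥(normalizer (V : Set G)) := fun p =>
    ⟨C.co p.1 * (p.2 : G), mul_mem (le_normalizer (C.co_mem _ p.1.2)) (C.K_le p.2.2)⟩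
  have hf : Function.Surjective f := by
    rintro ⟨g, hg⟩
    obtain ⟨v, hv, k, rfl⟩ := Cfg.exists_decomp C hg
    exact ⟨(⟨v, hv⟩, k), rfl⟩
  have := Nat.card_le_card_of_surjective f hf
  rwa [Nat.card_prod, Nat.card_fin, C.card_K] at this

theorem isConj_jHom_vec {m : ℕ} (hm : m < 2048) (h0 : m ≠ 0) :
    IsConj z (jHom C t (SemidirectProduct.inl (vec m))) ↔ isLab (app baseM m) = false := by
  rw [jHom_vec]
  refine C.conj_z _ (base_spec hm).2.2.1 fun h => h0 ?_
  have := (base_spec hm).1
  rw [h, show app baseMi 0 = 0 by decide +kernel] at this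
  exact this.symm

theorem centralizer_jHom_vec [Finite G] {m : ℕ} (hm : m < 2048)
    (h : isLab (app baseM m) = true) :
    centralizer ({jHom C t (SemidirectProduct.inl (vec m))} : Set G) ≤ (jHom C t).range := by
  rw [range_jHom, jHom_vec]
  exact C.cent_lab _ (base_spec hm).2.2.1 h

end H58.J4Id
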