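import Cfsg.Agent.H58.J4Id.Fus
import Cfsg.Agent.H54.J4A10.Exist
import Cfsg.Agent.H69.J4.Main

/-!
A group of Janko-four type has a copy of the model as the normalizer of an elementary abelian
subgroup of order `2 ^ 11`, with the fusion property of the pair vector.
-/

set_option autoImplicit false

namespace H58.J4Id

open Subgroup Cfsg.Agent.H69.J4

variable {G : Type*} [Group G] [Finite G] [IsSimpleGroup G]

/-- Coordinates and the two copies of the model. -/
theorem exists_copy (hG : ¬ IsMulCommutative G) {z : G} (hJ : Cfsg.IsOfJankoFourTypeAt z) :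
    ∃ (V : Subgroup G) (C : H54.J4A10.Cfg z V), Cfsg.IsElementaryAbelian 2 V ∧
      Nat.card V = 2 ^ 11 ∧ ∀ b : Bool, Function.Injective (jHom C b) ∧
        (jHom C b).range = normalizer (V : Set G) ∧
        ∀ g : G, (∃ m : ℕ, g * jHom C b (H92.J4Rel.vN H92.J4Rel.duadMask) * g⁻¹ =
          jHom C b (H92.J4Rel.vN m)) → g ∈ (jHom C b).range := by
  obtain ⟨P, hP⟩ := id hJ
  obtain ⟨N, e, o⟩ := outer_of_type hP
  obtain ⟨R⟩ := exists_real o (data_of_type hP)
  obtain ⟨C⟩ := H54.J4A10.exists_cfg hG hJ R.V0 R.V0_elementary R.card_V0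
  exact ⟨R.V0, C, R.V0_elementary, R.card_V0, fun b => ⟨jHom_injective C b, range_jHom C b,
    fus_jHom hG hJ R.V0_elementary R.card_V0 C b⟩⟩

end H58.J4Id
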