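import Cfsg.Agent.H58.J4Id.Base
import Cfsg.Agent.S5568
import Cfsg.Agent.H92.J4Rel.Defs

/-!
An element fusing a pair vector of the copy of the model into the copy of the vectors lies in the
copy.
-/

set_option autoImplicit false

namespace H58.J4Id

open Subgroup H54.J4A10
open H94.J4 (vec app)

variable {G : Type*} [Group G] [Finite G] {z : G} {V : Subgroup G}

theorem duad_isLab : isLab (app baseM H92.J4Rel.duadMask) = true := by decide +kernel

/-- The field `fus` of the interface. -/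
theorem fus_jHom [IsSimpleGroup G] (hG : ¬ IsMulCommutative G) (hJ : Cfsg.IsOfJankoFourTypeAt z)
    (hV : Cfsg.IsElementaryAbelian 2 V) (hcard : Nat.card V = 2 ^ 11) (C : Cfg z V) (t : Bool)
    (g : G) (h : ∃ m : ℕ,
      g * jHom C t (H92.J4Rel.vN H92.J4Rel.duadMask) * g⁻¹ = jHom C t (H92.J4Rel.vN m)) :
    g ∈ (jHom C t).range := by
  classical
  obtain ⟨m, hm⟩ := h
  have hd2048 : app baseM H92.J4Rel.duadMask < 2048 := (base_spec (by decide)).2.2.1
  set d := jHom C t (H92.J4Rel.vN H92.J4Rel.duadMask) with hd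
  have hdco : d = C.co (app baseM H92.J4Rel.duadMask) := jHom_vec C t _
  have hlab := duad_isLab
  have hne : app baseM H92.J4Rel.duadMask ≠ 0 := by decide +kernel
  have hdV : d ∈ V := hdco ▸ C.co_mem _ hd2048
  have hd1 : d ≠ 1 := fun e => hne (co_eq_one C hd2048 (hdco ▸ e))
  have hdz : ¬ IsConj z d := by
    rw [hdco, C.conj_z _ hd2048 hne, hlab]
    simp
  set u := g * d * g⁻¹ with hu
  have huV : u ∈ V := by
    rw [← jHom_V C t, hm]
    exact ⟨_, ⟨_, rfl⟩, rfl⟩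
  have hu1 : u ≠ 1 := fun e => hd1 (conj_eq_one_iff.1 e)
  have huz : ¬ IsConj z u := fun e => hdz (e.trans (isConj_iff.2 ⟨g⁻¹, by rw [hu]; group⟩))
  obtain ⟨z', t', hz', ht', ht1, hzz', htz', h1, h2, -⟩ :=
    Cfsg.Agent.S5568.result hG z hJ V hV hcard
  set A : Set G := {x | ∃ n ∈ normalizer (V : Set G), n * z' * n⁻¹ = x}
  set B : Set G := {x | ∃ n ∈ normalizer (V : Set G), n * t' * n⁻¹ = x}
  have hz1 : z' ≠ 1 := fun e1 => by
    obtain ⟨c, hc⟩ := isConj_iff.1 hzz'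
    obtain ⟨P, hP⟩ := id hJ
    have := hP.1
    rw [e1, conj_eq_one_iff] at hc
    rw [hc, orderOf_one] at this
    norm_num at this
  have hAB : A ∪ B = (V : Set G) \ {1} := by
    have hdisj : Disjoint A B := by
      rw [Set.disjoint_left]
      rintro x ⟨a, -, rfl⟩ ⟨b, -, hb⟩
      exact htz' ((hzz'.trans (isConj_iff.2 ⟨a, rfl⟩)).trans (hb ▸ (isConj_iff.2 ⟨b, rfl⟩).symm))
    refine Set.eq_of_subset_of_ncard_le ?_ ?_
    · rintro x (⟨n, hn, rfl⟩ | ⟨n, hn, rfl⟩)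
      · exact ⟨(mem_normalizer_iff.1 hn _).1 hz', fun e1 => hz1 (conj_eq_one_iff.1 e1)⟩
      · exact ⟨(mem_normalizer_iff.1 hn _).1 ht', fun e1 => ht1 (conj_eq_one_iff.1 e1)⟩
    · rw [Set.ncard_union_eq hdisj, h1, h2, Set.ncard_diff (Set.singleton_subset_iff.2 V.one_mem),
        Set.ncard_singleton, ← Nat.card_coe_set_eq]
      show Nat.card V - 1 ≤ 1771 + 276
      rw [hcard]; norm_num
  have mem_B : ∀ x ∈ V, x ≠ 1 → ¬ IsConj z x → x ∈ B := fun x hx hx1 hxz => by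
    have hx' : x ∈ A ∪ B := hAB ▸ ⟨hx, hx1⟩
    refine hx'.resolve_left ?_
    rintro ⟨n, -, rfl⟩
    exact hxz (hzz'.trans (isConj_iff.2 ⟨n, rfl⟩))
  obtain ⟨a, ha, hae⟩ := mem_B d hdV hd1 hdz
  obtain ⟨b, hb, hbe⟩ := mem_B u huV hu1 huz
  have hc : (b * a⁻¹)⁻¹ * g ∈ centralizer ({d} : Set G) := by
    rw [mem_centralizer_singleton_iff]
    have e : g * d = b * t' * b⁻¹ * g := by rw [hbe, hu]; group
    rw [← hae]
    rw [← hae] at e
    calc (b * a⁻¹)⁻¹ * g * (a * t' * a⁻¹) = a * b⁻¹ * (g * (a * t' * a⁻¹)) := by group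
      _ = a * t' * a⁻¹ * ((b * a⁻¹)⁻¹ * g) := by rw [e]; group
  rw [range_jHom]
  have hn := C.cent_lab _ hd2048 hlab (hdco ▸ hc)
  have := mul_mem (mul_mem hb (inv_mem ha)) hn
  rwa [mul_inv_cancel_left] at this

end H58.J4Id
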