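import Cfsg.Agent.H58.J4Id.Tw
import Cfsg.Agent.H92.J4Rel.RelB
import Cfsg.Agent.H95.J4Tau.Pairs
import Cfsg.Agent.H69.J4.SurjHom
import Cfsg.Agent.H69.J4.Surjection

/-!
The homomorphism of the presented fourth Janko group into a group of Janko-four type.
-/

set_option autoImplicit false

namespace H58.J4Id

open Subgroup

/-- A nontrivial homomorphism of the presented group into a group of Janko-four type. -/
theorem surj {G : Type*} [Group G] [Finite G] [IsSimpleGroup G] (hG : ¬ IsMulCommutative G)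
    (hJ : Cfsg.IsOfJankoFourType G) : Cfsg.Agent.H69.J4.SurjData G := by
  obtain ⟨z, hz⟩ := id hJ
  obtain ⟨P, hP⟩ := id hz
  obtain ⟨V, C, hV, hcard, hC⟩ := exists_copy hG hz
  obtain ⟨hinj, -, hfus⟩ := hC false
  obtain ⟨t, k, hk, hr, hv, ht, htN, hp⟩ := H95.J4Tau.exists_pairs hG hz hV hcard C false
  have hfus' : ∀ g : G, (∃ m : ℕ, g * k (H92.J4Rel.vN H92.J4Rel.duadMask) * g⁻¹ =
      k (H92.J4Rel.vN m)) → g ∈ k.range := by
    rintro g ⟨m, hm⟩
    rw [hr]
    refine hfus g ⟨m, ?_⟩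
    unfold H92.J4Rel.vN at hm ⊢
    rwa [hv, hv] at hm
  let T : H92.J4Rel.Tw G :=
    ⟨k, hk, t, ht, htN, hp, hfus', H9.J4LineN.line_field hG hP _ hk⟩
  obtain ⟨S, -, hSt⟩ := H92.J4Rel.setup T
  refine ⟨Cfsg.Agent.H69.J4.setupHom S, Cfsg.Agent.H69.J4.setupHom_ne_one S fun e => htN ?_⟩
  have e' : t = 1 := hSt.symm.trans e
  rw [e']
  exact one_mem _

end H58.J4Id
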