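import Cfsg.Agent.H58.J4Id.Exists
import Cfsg.Agent.H9.J4LineN.Main

/-!
The interface for the relators, from the involution outside the copy with the primary pairs.
-/

set_option autoImplicit false

namespace H58.J4Id

open Subgroup
open H94.J4 (NN gen14)
open H77.HN (evw)

variable {G : Type*} [Group G] [Finite G] [IsSimpleGroup G]

/-- What the construction of `t` provides for coordinates `C`. -/
def TauSpec {z : G} {V : Subgroup G} (C : H54.J4A10.Cfg z V) : Prop :=
  ∃ (b : Bool) (t : G), t * t = 1 ∧ t ∉ (jHom C b).range ∧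
    ∀ p ∈ H94.J4.Data.prim, t * jHom C b (evw gen14 p.1) = jHom C b (evw gen14 p.2) * t

/-- The interface, with `t ≠ 1`. -/
theorem exists_tw (hG : ¬ IsMulCommutative G) (hJ : Cfsg.IsOfJankoFourType G)
    (htau : ∀ (z : G) (_ : Cfsg.IsOfJankoFourTypeAt z) (V : Subgroup G)
      (_ : Cfsg.IsElementaryAbelian 2 V) (_ : Nat.card V = 2 ^ 11) (C : H54.J4A10.Cfg z V),
        TauSpec C) :
    ∃ T : H92.J4Rel.Tw G, T.t ≠ 1 := by
  obtain ⟨z, hz⟩ := id hJ
  obtain ⟨P, hP⟩ := id hz
  obtain ⟨V, C, hV, hcard, hC⟩ := exists_copy hG hz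
  obtain ⟨b, t, ht, htN, hprim⟩ := htau z hz V hV hcard C
  obtain ⟨hinj, -, hfus⟩ := hC b
  exact ⟨⟨jHom C b, hinj, t, ht, htN, hprim, hfus, H9.J4LineN.line_field hG hP _ hinj⟩,
    fun e => htN (by
      change t = 1 at e
      rw [e]
      exact one_mem _)⟩

end H58.J4Id
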